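import Groth.Agent.L03.SurfExt.Bidual
import Groth.Agent.L22.Reg.Cx
import Groth.Agent.L29.DCoh.Amplitude
import Groth.Agent.L22.Adjunction.ExtTop

/-!
# Extensions by pushout along a map to an invertible module
-/

set_option autoImplicit false
set_option backward.isDefEq.respectTransparency false
set_option linter.style.haveILetI false
universe u

open CategoryTheory CategoryTheory.Limits AlgebraicGeometry TopologicalSpace Opposite

noncomputable section

namespace Groth.L03.VBPn.Serre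

open Groth.L16.HomSh
open Groth.L22.ExtSh (E preNat additive_homModF)
open Groth.L22.PDual (pre' pre'_comp pre'_zero)
open Groth.L00.Tensor (tensorMap tensorUnitRight)
open Groth.L03.SurfExt (preservesFiniteLimits_homModF eZeroIso bd bd_natural isIso_bd isFinLocFree_homMod)

variable {X : Scheme.{u}}

theorem pre_zero (S : ShortComplex X.Modules) (G : X.Modules) : pre' G S.g ≫ pre' G S.f = 0 := by
  rw [← pre'_comp, S.zero, pre'_zero]

variable [HasInjectiveResolutions X.Modules] [IsLocallyNoetherian X]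

/-- The contravariant sequence of sheaves of homomorphisms, up to the first Ext sheaf. -/
theorem exists_exact_pre {S : ShortComplex X.Modules} (hS : S.ShortExact)
    (h₁ : Coh.IsCoh S.X₁) (h₂ : Coh.IsCoh S.X₂) (h₃ : Coh.IsCoh S.X₃) (G : X.Modules) :
    ∃ (b : homMod S.X₁ G ⟶ E S.X₃ G 1) (w : pre' G S.f ≫ b = 0),
      Mono (pre' G S.g) ∧ (ShortComplex.mk _ _ (pre_zero S G)).Exact ∧
      (ShortComplex.mk (pre' G S.f) b w).Exact ∧ (IsZero (E S.X₂ G 1) → Epi b) := by
  let I := injectiveResolution G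
  let Φ : ∀ M : X.Modules, CochainComplex X.Modules ℕ := fun M =>
    haveI := additive_homModF M
    ((homModF M).mapHomologicalComplex _).obj I.cocomplex
  haveI := additive_homModF S.X₁
  haveI := additive_homModF S.X₂
  haveI := additive_homModF S.X₃
  haveI := preservesFiniteLimits_homModF S.X₁
  haveI := preservesFiniteLimits_homModF S.X₂
  haveI := preservesFiniteLimits_homModF S.X₃
  let T : ShortComplex (CochainComplex X.Modules ℕ) :=
    ShortComplex.mk (X₁ := Φ S.X₃) (X₂ := Φ S.X₂) (X₃ := Φ S.X₁)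
      ((NatTrans.mapHomologicalComplex (preNat S.g) _).app I.cocomplex)
      ((NatTrans.mapHomologicalComplex (preNat S.f) _).app I.cocomplex) (by
        refine HomologicalComplex.hom_ext _ _ fun j => ?_
        show pre' (I.cocomplex.X j) S.g ≫ pre' (I.cocomplex.X j) S.f = 0
        rw [← pre'_comp, S.zero, pre'_zero])
  have hT : T.ShortExact := HomologicalComplex.shortExact_of_degreewise_shortExact _ fun j =>
    Groth.L22.ExtSh.shortExact_pre hS h₁ h₂ h₃ (I.cocomplex.X j)
  let c3 : homMod S.X₃ G ⟶ T.X₁.cycles 0 := I.toRightDerivedZero' (homModF S.X₃)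
  let c2 : homMod S.X₂ G ⟶ T.X₂.cycles 0 := I.toRightDerivedZero' (homModF S.X₂)
  let c1 : homMod S.X₁ G ⟶ T.X₃.cycles 0 := I.toRightDerivedZero' (homModF S.X₁)
  haveI : IsIso c3 := inferInstanceAs (IsIso (I.toRightDerivedZero' (homModF S.X₃)))
  haveI : IsIso c2 := inferInstanceAs (IsIso (I.toRightDerivedZero' (homModF S.X₂)))
  haveI : IsIso c1 := inferInstanceAs (IsIso (I.toRightDerivedZero' (homModF S.X₁)))
  let d3 : homMod S.X₃ G ≅ T.X₁.homology 0 := asIso c3 ≪≫ CochainComplex.isoHomologyπ₀ T.X₁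
  let d2 : homMod S.X₂ G ≅ T.X₂.homology 0 := asIso c2 ≪≫ CochainComplex.isoHomologyπ₀ T.X₂
  let d1 : homMod S.X₁ G ≅ T.X₃.homology 0 := asIso c1 ≪≫ CochainComplex.isoHomologyπ₀ T.X₃
  have hsq : pre' G S.f ≫ c1 = c2 ≫ HomologicalComplex.cyclesMap T.g 0 := by
    rw [← cancel_mono (HomologicalComplex.iCycles T.X₃ 0)]
    rw [Category.assoc, Category.assoc, HomologicalComplex.cyclesMap_i]
    show pre' G S.f ≫ I.toRightDerivedZero' (homModF S.X₁) ≫ _ =
      I.toRightDerivedZero' (homModF S.X₂) ≫ _ ≫ _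
    refine (congrArg (pre' G S.f ≫ ·) (I.toRightDerivedZero'_comp_iCycles (homModF S.X₁))).trans ?_
    refine Eq.trans ?_ ((congrArg (· ≫ T.g.f 0) (I.toRightDerivedZero'_comp_iCycles (homModF S.X₂))).symm.trans
      (Category.assoc _ _ _))
    exact ((preNat S.f).naturality (I.ι.f 0)).symm
  have hsq' : pre' G S.g ≫ c2 = c3 ≫ HomologicalComplex.cyclesMap T.f 0 := by
    rw [← cancel_mono (HomologicalComplex.iCycles T.X₂ 0)]
    rw [Category.assoc, Category.assoc, HomologicalComplex.cyclesMap_i]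
    show pre' G S.g ≫ I.toRightDerivedZero' (homModF S.X₂) ≫ _ =
      I.toRightDerivedZero' (homModF S.X₃) ≫ _ ≫ _
    refine (congrArg (pre' G S.g ≫ ·) (I.toRightDerivedZero'_comp_iCycles (homModF S.X₂))).trans ?_
    refine Eq.trans ?_ ((congrArg (· ≫ T.f.f 0) (I.toRightDerivedZero'_comp_iCycles (homModF S.X₃))).symm.trans
      (Category.assoc _ _ _))
    exact ((preNat S.g).naturality (I.ι.f 0)).symm
  have hd : pre' G S.f ≫ d1.hom = d2.hom ≫ HomologicalComplex.homologyMap T.g 0 := by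
    show pre' G S.f ≫ c1 ≫ T.X₃.homologyπ 0 = (c2 ≫ T.X₂.homologyπ 0) ≫ _
    rw [reassoc_of% hsq, Category.assoc, HomologicalComplex.homologyπ_naturality]
  have hd' : pre' G S.g ≫ d2.hom = d3.hom ≫ HomologicalComplex.homologyMap T.f 0 := by
    show pre' G S.g ≫ c2 ≫ T.X₂.homologyπ 0 = (c3 ≫ T.X₁.homologyπ 0) ≫ _
    rw [reassoc_of% hsq', Category.assoc, HomologicalComplex.homologyπ_naturality]
  let e : E S.X₃ G 1 ≅ T.X₁.homology 1 := I.isoRightDerivedObj (homModF S.X₃) 1
  let b : homMod S.X₁ G ⟶ E S.X₃ G 1 := d1.hom ≫ hT.δ 0 1 rfl ≫ e.inv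
  have w : pre' G S.f ≫ b = 0 := by
    simp only [b, reassoc_of% hd, reassoc_of% (hT.comp_δ 0 1 rfl), zero_comp, comp_zero]
  refine ⟨b, w, ?_, ?_, ?_, fun h1 => ?_⟩
  · haveI : Mono (post S.X₃ (I.ι.f 0)) := inferInstanceAs (Mono ((homModF S.X₃).map (I.ι.f 0)))
    haveI : Mono (pre' (I.cocomplex.X 0) S.g) :=
      (Groth.L22.ExtSh.shortExact_pre hS h₁ h₂ h₃ (I.cocomplex.X 0)).mono_f
    haveI hm : Mono (post S.X₃ (I.ι.f 0) ≫ pre' (I.cocomplex.X 0) S.g) := mono_comp _ _
    have hn : post S.X₃ (I.ι.f 0) ≫ pre' (I.cocomplex.X 0) S.g = pre' G S.g ≫ post S.X₂ (I.ι.f 0) :=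
      (preNat S.g).naturality (I.ι.f 0)
    exact @mono_of_mono _ _ _ _ _ _ _ (hn ▸ hm)
  · refine ShortComplex.exact_of_iso (ShortComplex.isoMk d3.symm d2.symm d1.symm ?_ ?_) (hT.homology_exact₂ 0)
    · show d3.inv ≫ pre' G S.g = _ ≫ d2.inv
      rw [Iso.inv_comp_eq, ← Category.assoc, Iso.eq_comp_inv]
      exact hd'
    · show d2.inv ≫ pre' G S.f = _ ≫ d1.inv
      rw [Iso.inv_comp_eq, ← Category.assoc, Iso.eq_comp_inv]
      exact hd
  · refine ShortComplex.exact_of_iso (ShortComplex.isoMk d2.symm d1.symm e.symm ?_ ?_) (hT.homology_exact₃ 0 1 rfl)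
    · show d2.inv ≫ pre' G S.f = _ ≫ d1.inv
      rw [Iso.inv_comp_eq, ← Category.assoc, Iso.eq_comp_inv]
      exact hd
    · simp [b]
  · have z1 : IsZero (T.X₂.homology 1) := h1.of_iso (I.isoRightDerivedObj (homModF S.X₂) 1).symm
    haveI : Epi (hT.δ 0 1 rfl) := (hT.homology_exact₁ 0 1 rfl).epi_f (z1.eq_of_tgt _ _)
    exact inferInstanceAs (Epi (_ ≫ _ ≫ _))

/-- Dimension shift for the second Ext sheaf. -/
theorem nonempty_shift_two {S : ShortComplex X.Modules} (hS : S.ShortExact)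
    (h₁ : Coh.IsCoh S.X₁) (h₂ : Coh.IsCoh S.X₂) (h₃ : Coh.IsCoh S.X₃) (hP : FlatMod.IsFinLocFree S.X₂)
    (G : X.Modules) : Nonempty (E S.X₁ G 1 ≅ E S.X₃ G 2) := by
  obtain ⟨f, ⟨e⟩⟩ := Groth.L22.ExtSh.exists_cokernel_iso hS h₁ h₂ h₃ G 1
    (Groth.L22.ExtSh.isZero_E_free h₂ hP G 1)
  have hf : f = 0 := (Groth.L22.ExtSh.isZero_E_free h₂ hP G 0).eq_of_src _ _
  haveI : IsIso (cokernel.π f) := by
    subst hf
    infer_instance
  exact ⟨asIso (cokernel.π f) ≪≫ e⟩

/-- Precomposition with the inclusion is invertible when the quotient has no first two Ext sheaves. -/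
theorem isIso_pre {S : ShortComplex X.Modules} (hS : S.ShortExact)
    (h₁ : Coh.IsCoh S.X₁) (h₂ : Coh.IsCoh S.X₂) (h₃ : Coh.IsCoh S.X₃) (G : X.Modules)
    (h0 : IsZero (E S.X₃ G 0)) (h1 : IsZero (E S.X₃ G 1)) : IsIso (pre' G S.f) := by
  obtain ⟨b, w, -, he, hex, -⟩ := exists_exact_pre hS h₁ h₂ h₃ G
  haveI : Mono (pre' G S.f) :=
    he.mono_g ((h0.of_iso (eZeroIso S.X₃ G).symm).eq_of_src _ _)
  haveI : Epi (pre' G S.f) := hex.epi_f (h1.eq_of_tgt _ _)
  exact isIso_of_mono_of_epi _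

/-- A map of locally free modules with surjective dual has locally free cokernel. -/
theorem isFinLocFree_cokernel_of_epi_pre {K F G : X.Modules} (hK : FlatMod.IsFinLocFree K)
    (hF : FlatMod.IsFinLocFree F) (hG : PicF.IsInvertible G) (φ : K ⟶ F) [Epi (pre' G φ)] :
    FlatMod.IsFinLocFree (cokernel φ) := by
  have hKd := isFinLocFree_homMod hK hG
  have hFd := isFinLocFree_homMod hF hG
  have hN : FlatMod.IsFinLocFree (kernel (pre' G φ)) :=
    Groth.L29.DC.isFinLocFree_kernel_of_epi _ hFd hKd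
  let T : ShortComplex X.Modules := ShortComplex.mk (kernel.ι (pre' G φ)) (pre' G φ) (kernel.condition _)
  have hT : T.ShortExact := { exact := ShortComplex.exact_kernel _ }
  have hc : ∀ {M : X.Modules}, FlatMod.IsFinLocFree M → Coh.IsCoh M := fun h =>
    Groth.L16.NegPow.isCoh_of_isFinLocFree h
  obtain ⟨b, w, -, he, hex, -⟩ := exists_exact_pre hT (hc hN) (hc hFd) (hc hKd) G
  have hz : IsZero (E T.X₃ G 1) := Groth.L22.ExtSh.isZero_E_free (hc hKd) hKd G 0
  haveI : Epi (pre' G T.f) := hex.epi_f (hz.eq_of_tgt _ _)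
  haveI := isIso_bd hK hG
  haveI := isIso_bd hF hG
  let e : cokernel φ ≅ cokernel (pre' G T.g) :=
    cokernel.mapIso φ (pre' G (pre' G φ)) (asIso (bd K G)) (asIso (bd F G)) (bd_natural G φ).symm
  let e' : cokernel (pre' G T.g) ≅ homMod T.X₁ G :=
    (cokernelIsCokernel _).coconePointUniqueUpToIso he.gIsCokernel
  exact Groth.L29.LocFree.of_iso (e ≪≫ e').symm (isFinLocFree_homMod hN hG)

omit [HasInjectiveResolutions X.Modules] [IsLocallyNoetherian X] in
/-- The identity, as a section of the endomorphisms. -/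
def idSec (G : X.Modules) : Coh.structureModule X ⟶ homMod G G := curryHom (tensorUnitRight G).hom

omit [HasInjectiveResolutions X.Modules] [IsLocallyNoetherian X] in
/-- Sections of a sheaf of homomorphisms are morphisms. -/
theorem exists_of_section {K G : X.Modules} (s : Coh.structureModule X ⟶ homMod K G) :
    ∃ h : K ⟶ G, idSec G ≫ pre' G h = s := by
  refine ⟨(tensorUnitRight K).inv ≫ (curryEquiv K (Coh.structureModule X) G).symm s, ?_⟩
  rw [idSec, ← Groth.L22.PDual.curryHom_natural, Groth.L22.Reg.tensorUnitRight_natural, Iso.hom_inv_id_assoc]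
  exact (curryEquiv K (Coh.structureModule X) G).apply_symm_apply s

omit [HasInjectiveResolutions X.Modules] [IsLocallyNoetherian X] in
/-- If a section generates the cokernel of precomposition, the combined map has surjective dual. -/
theorem epi_pre_lift {K P G A : X.Modules} (h : K ⟶ G) (f : K ⟶ P) (b : homMod K G ⟶ A)
    (w : pre' G f ≫ b = 0) (hex : (ShortComplex.mk (pre' G f) b w).Exact) [Epi b]
    [Epi (idSec G ≫ pre' G h ≫ b)] : Epi (pre' G (biprod.lift h f)) := by
  refine Preadditive.epi_of_cancel_zero _ fun {W} q hq => ?_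
  have h1 : pre' G h ≫ q = 0 := by
    rw [show h = biprod.lift h f ≫ biprod.fst from (biprod.lift_fst h f).symm, pre'_comp, Category.assoc, hq, comp_zero]
  have h2 : pre' G f ≫ q = 0 := by
    rw [show f = biprod.lift h f ≫ biprod.snd from (biprod.lift_snd h f).symm, pre'_comp, Category.assoc, hq, comp_zero]
  obtain ⟨q', hq'⟩ : ∃ q', b ≫ q' = q := ⟨hex.desc q h2, hex.g_desc q h2⟩
  subst hq'
  have h3 : (idSec G ≫ pre' G h ≫ b) ≫ q' = 0 := by
    simp only [Category.assoc]
    rw [h1, comp_zero]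
  rw [(cancel_epi (idSec G ≫ pre' G h ≫ b)).1 (h3.trans comp_zero.symm), comp_zero]

omit [HasInjectiveResolutions X.Modules] [IsLocallyNoetherian X] in
/-- The pushout of a short exact sequence. -/
theorem shortExact_pushout {S : ShortComplex X.Modules} (hS : S.ShortExact) {G : X.Modules} (h : S.X₁ ⟶ G) :
    ∃ (b : cokernel (biprod.lift h S.f) ⟶ S.X₃)
      (w : (biprod.inl ≫ cokernel.π (biprod.lift h S.f)) ≫ b = 0),
      (ShortComplex.mk (biprod.inl ≫ cokernel.π (biprod.lift h S.f)) b w).ShortExact := by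
  haveI := hS.mono_f
  haveI := hS.epi_g
  let π := cokernel.π (biprod.lift h S.f)
  have hw : biprod.lift h S.f ≫ biprod.snd ≫ S.g = 0 := by rw [biprod.lift_snd_assoc, S.zero]
  let b := cokernel.desc (biprod.lift h S.f) (biprod.snd ≫ S.g) hw
  have hb : π ≫ b = biprod.snd ≫ S.g := cokernel.π_desc _ _ _
  have w : (biprod.inl ≫ π) ≫ b = 0 := by rw [Category.assoc, hb, biprod.inl_snd_assoc, zero_comp]
  haveI : Mono (biprod.lift h S.f) :=
    @mono_of_mono _ _ _ _ _ _ biprod.snd (by rw [biprod.lift_snd]; exact hS.mono_f)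
  haveI : Epi b := @epi_of_epi _ _ _ _ _ π b (by rw [hb]; exact epi_comp _ _)
  refine ⟨b, w, { exact := ?_, mono_f := ?_, epi_g := inferInstanceAs (Epi b) }⟩
  · refine ShortComplex.exact_of_g_is_cokernel _ ?_
    have key : ∀ {Z : X.Modules} (q : cokernel (biprod.lift h S.f) ⟶ Z), (biprod.inl ≫ π) ≫ q = 0 →
        ∃ l, b ≫ l = q := fun {Z} q hq => by
      have h4 : π ≫ q = biprod.snd ≫ biprod.inr ≫ π ≫ q := by
        apply biprod.hom_ext'
        · rw [← Category.assoc, hq, biprod.inl_snd_assoc, zero_comp]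
        · rw [biprod.inr_snd_assoc]
      have h5 : S.f ≫ biprod.inr ≫ π ≫ q = 0 := by
        rw [← biprod.lift_snd_assoc (f := h), ← h4, ← Category.assoc, cokernel.condition, zero_comp]
      refine ⟨hS.exact.desc _ h5, (cancel_epi π).1 ?_⟩
      rw [reassoc_of% hb, hS.exact.g_desc, ← h4]
    exact CokernelCofork.IsColimit.ofπ _ _ (fun q hq => (key q hq).choose) (fun q hq => (key q hq).choose_spec)
      (fun q hq m hm => (cancel_epi b).1 (hm.trans (key q hq).choose_spec.symm))
  · refine Preadditive.mono_of_cancel_zero _ fun {W} x hx => ?_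
    have hk : (ShortComplex.mk (biprod.lift h S.f) π (cokernel.condition _)).Exact := ShortComplex.exact_cokernel _
    have hx' : (x ≫ biprod.inl) ≫ π = 0 := by rw [Category.assoc]; exact hx
    have hl := hk.lift_f (x ≫ biprod.inl) hx'
    have h6 : hk.lift (x ≫ biprod.inl) hx' ≫ S.f = 0 := by
      have := congrArg (· ≫ biprod.snd) hl
      simpa using this
    rw [(cancel_mono S.f).1 (h6.trans zero_comp.symm), zero_comp] at hl
    exact (cancel_mono biprod.inl).1 (hl.symm.trans zero_comp.symm)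

end Groth.L03.VBPn.Serre
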