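import Groth.Agent.L21.RedCurve.Points
import Groth.Agent.L14.RegImmStalk.Stalk
import Groth.Agent.L03.SurfExt.Local
import Mathlib.RingTheory.Regular.ProjectiveDimension
import Mathlib.RingTheory.KrullDimension.Regular

/-!
# Stalks of the ideal of a regular immersion of codimension two
-/

set_option autoImplicit false
set_option backward.isDefEq.respectTransparency false
set_option linter.style.haveILetI false
universe u

open CategoryTheory CategoryTheory.Limits AlgebraicGeometry TopologicalSpace Opposite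
open RingTheory.Sequence IsLocalRing

noncomputable section

namespace Groth.L03.VBPn.Serre

open Groth.L21.CurveAdj (stI stI_eq_map)

/-- An ideal generated by a regular sequence of length two has projective dimension at most one. -/
theorem pd_ofList {R : Type u} [CommRing R] [IsLocalRing R] [IsNoetherianRing R] {rs : List R}
    (h : IsRegular R rs) (hlen : rs.length = 2) :
    HasProjectiveDimensionLE (ModuleCat.of R (Ideal.ofList rs)) 1 := by
  have mem : ∀ r ∈ rs, r ∈ maximalIdeal R := fun r hr =>
    IsLocalRing.le_maximalIdeal h.2.symm (by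
      rw [smul_eq_mul, Ideal.mul_top]
      exact Ideal.subset_span hr)
  have hpd := ModuleCat.projectiveDimension_quotient_eq_add_length_of_isWeaklyRegular (ModuleCat.of R R) rs h.1 mem
  haveI : Projective (ModuleCat.of R R) := (IsProjective.iff_projective _).mp inferInstance
  rw [ModuleCat.projectiveDimension_eq_zero_of_projective (ModuleCat.of R R), hlen, zero_add] at hpd
  let N : Submodule R R := Ideal.ofList rs • ⊤
  let S : ShortComplex (ModuleCat.{u} R) :=
    ShortComplex.mk (ModuleCat.ofHom N.subtype) (ModuleCat.ofHom N.mkQ)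
      (ModuleCat.hom_ext (LinearMap.ext fun v => (Submodule.Quotient.mk_eq_zero N).2 v.2))
  have hS : S.ShortExact :=
    { exact := S.moduleCat_exact_iff.2 fun v hv => ⟨⟨v, (Submodule.Quotient.mk_eq_zero N).1 hv⟩, rfl⟩
      mono_f := (ModuleCat.mono_iff_injective _).2 N.injective_subtype
      epi_g := (ModuleCat.epi_iff_surjective _).2 N.mkQ_surjective }
  have h3 : HasProjectiveDimensionLT S.X₃ (2 + 1) := (projectiveDimension_le_iff S.X₃ 2).1 hpd.le
  have h2 : HasProjectiveDimensionLT S.X₂ 2 := hasProjectiveDimensionLT_of_ge (ModuleCat.of R R) 1 2 one_le_two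
  have hN : N = Ideal.ofList rs := by
    show Ideal.ofList rs • (⊤ : Submodule R R) = _
    rw [smul_eq_mul, Ideal.mul_top]
  haveI : HasProjectiveDimensionLT (ModuleCat.of R N) 2 := hS.hasProjectiveDimensionLT_X₁ 2 h2 h3
  exact hasProjectiveDimensionLT_of_iso (show ModuleCat.of R N ≅ ModuleCat.of R (Ideal.ofList rs) from
    (LinearEquiv.ofEq _ _ hN).toModuleIso) 2

variable {X Y : Scheme.{u}} (i : Y ⟶ X) [IsClosedImmersion i]

/-- The ideal at a point of the subscheme. -/
theorem exists_regular_stalk (hi : RegImm.IsRegularImmersionOfCodim RegImm.Kind.regular 2 i) (z : Y) :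
    ∃ rs : List (X.presheaf.stalk (i z)), rs.length = 2 ∧ IsRegular (X.presheaf.stalk (i z)) rs ∧
      stI i.ker (i z) = Ideal.ofList rs := by
  obtain ⟨⟨W, hW⟩, hz, hcl, rs, hlen, hrs, hker⟩ := hi.2 z
  letI : Algebra Γ(X, W) (X.presheaf.stalk (i z)) := (X.presheaf.germ W (i z) hz).hom.toAlgebra
  haveI := hW.isLocalization_stalk ⟨i z, hz⟩
  have hk := Groth.L14.RegImmStalk.ker_stalkMap i hW hcl z hz
  have hst : stI i.ker (i z) = Ideal.ofList (rs.map (X.presheaf.germ W (i z) hz).hom) := by
    rw [stI_eq_map i.ker hW hz, Scheme.Hom.ker_apply, hker, Ideal.map_ofList]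
  rw [hker, Ideal.map_ofList] at hk
  refine ⟨rs.map (X.presheaf.germ W (i z) hz).hom, by rw [List.length_map, hlen],
    ⟨hrs.toIsWeaklyRegular.of_isLocalization _ (hW.primeIdealOf ⟨i z, hz⟩).asIdeal.primeCompl, fun htop => ?_⟩, hst⟩
  rw [smul_eq_mul, Ideal.mul_top, ← hk] at htop
  exact RingHom.ker_ne_top _ htop.symm

/-- Off the subscheme the ideal is everything. -/
theorem stI_eq_top {x : X} (hx : x ∉ Set.range i) : stI i.ker x = ⊤ := by
  obtain ⟨V, hV, hxV, hle⟩ := exists_isAffineOpen_mem_and_subset (x := x)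
    (U := ⟨(Set.range i)ᶜ, i.isClosedEmbedding.isClosed_range.isOpen_compl⟩) hx
  rw [stI_eq_map i.ker hV hxV, Scheme.Hom.ker_apply, Ideal.eq_top_iff_one]
  have h1 : (1 : Γ(X, V)) ∈ RingHom.ker (i.app V).hom := by
    have e : i ⁻¹ᵁ V = ⊥ := le_bot_iff.1 fun z hz => hle hz ⟨z, rfl⟩
    haveI : Subsingleton Γ(Y, i ⁻¹ᵁ V) := by
      rw [e]
      exact CommRingCat.subsingleton_of_isTerminal Y.sheaf.isTerminalOfEmpty
    exact Subsingleton.elim _ _
  rw [← map_one (X.presheaf.germ V x hxV).hom]
  exact Ideal.mem_map_of_mem _ h1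

/-- The ideal sheaf has stalks of projective dimension at most one. -/
theorem pd_idealMod [IsLocallyNoetherian X] (hi : RegImm.IsRegularImmersionOfCodim RegImm.Kind.regular 2 i)
    (x : X) : HasProjectiveDimensionLE ((Groth.L00.Stk.F X x).obj (ClSub.idealMod i.ker)) 1 := by
  obtain ⟨e⟩ := Groth.L21.RedCurve.Pts.nonempty_idealMod_stalk_equiv i.ker x
  let e' : (Groth.L00.Stk.F X x).obj (ClSub.idealMod i.ker) ≅ ModuleCat.of (X.presheaf.stalk x) (stI i.ker x) :=
    LinearEquiv.toModuleIso e
  haveI : HasProjectiveDimensionLE (ModuleCat.of (X.presheaf.stalk x) (stI i.ker x)) 1 := by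
    by_cases hx : x ∈ Set.range i
    · obtain ⟨z, rfl⟩ := hx
      obtain ⟨rs, hlen, hrs, heq⟩ := exists_regular_stalk i hi z
      rw [heq]
      exact pd_ofList hrs hlen
    · rw [stI_eq_top i hx]
      haveI : Projective (ModuleCat.of (X.presheaf.stalk x) (⊤ : Ideal (X.presheaf.stalk x))) :=
        haveI := Module.Free.of_equiv (Submodule.topEquiv (R := X.presheaf.stalk x) (M := X.presheaf.stalk x)).symm
        (IsProjective.iff_projective _).mp inferInstance
      exact hasProjectiveDimensionLT_of_ge _ 1 2 one_le_two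
  exact hasProjectiveDimensionLT_of_iso e'.symm 2

/-- The points of the subscheme have local rings of dimension at least two. -/
theorem two_le_dim [IsLocallyNoetherian X] (hi : RegImm.IsRegularImmersionOfCodim RegImm.Kind.regular 2 i)
    {x : X} (hx : x ∈ Set.range i) : (2 : WithBot ℕ∞) ≤ ringKrullDim (X.presheaf.stalk x) := by
  obtain ⟨z, rfl⟩ := hx
  obtain ⟨rs, hlen, hrs, -⟩ := exists_regular_stalk i hi z
  rw [← ringKrullDim_add_length_eq_ringKrullDim_of_isRegular rs hrs, hlen]
  haveI : Nontrivial (X.presheaf.stalk (i z) ⧸ Ideal.ofList rs) :=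
    Ideal.Quotient.nontrivial_iff.2 (fun h => hrs.2 (by rw [smul_eq_mul, Ideal.mul_top, h]))
  exact le_add_of_nonneg_left ringKrullDim_nonneg_of_nontrivial

/-- A kernel of a cover of a module of projective dimension at most one is locally free. -/
theorem isFinLocFree_kernel [IsLocallyNoetherian X] {P F : X.Modules} (hP : FlatMod.IsFinLocFree P)
    (hF : Coh.IsCoh F) (hpd : ∀ x, HasProjectiveDimensionLE ((Groth.L00.Stk.F X x).obj F) 1)
    (p : P ⟶ F) [Epi p] : FlatMod.IsFinLocFree (kernel p) := by
  have hPc : Coh.IsCoh P := Groth.L16.NegPow.isCoh_of_isFinLocFree hP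
  refine Groth.L15.CohFlat.isFinLocFree_of_isCoh_isFlat _
    (Groth.L16.CohKernel.isCoh_kernel_cokernel hPc hF p).1 fun x => ?_
  let Φ := Groth.L00.Stk.F X x
  let S := ShortComplex.mk (kernel.ι p) p (kernel.condition p)
  have hS : S.ShortExact := { exact := ShortComplex.exact_kernel p }
  have hSx := hS.map_of_exact Φ
  haveI := Groth.L18.LFP.free_stalk P hP x
  haveI : Module.Free (X.presheaf.stalk x) (Φ.obj P) := this
  have hproj : Projective (Φ.obj P) := (IsProjective.iff_projective _).mp inferInstance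
  have h2 : HasProjectiveDimensionLT (S.map Φ).X₂ 1 := projective_iff_hasProjectiveDimensionLT_one.1 hproj
  have hpk : Projective (Φ.obj (kernel p)) :=
    projective_iff_hasProjectiveDimensionLT_one.2 (hSx.hasProjectiveDimensionLT_X₁ 1 h2 (hpd x))
  haveI : Module.Projective (X.presheaf.stalk x) (Φ.obj (kernel p)) := (IsProjective.iff_projective _).mpr hpk
  exact (Module.Flat.of_projective : Module.Flat (X.presheaf.stalk x) (Φ.obj (kernel p)))

end Groth.L03.VBPn.Serre
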