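import Groth.Agent.L03.VBPn.Serre.Local
import Groth.Agent.L03.VBPn.Serre.Homs
import Groth.Agent.L22.FLI.Iso
import Groth.Agent.L29.DCoh.ExtRegImm
import Groth.Agent.L29.DCoh.ExtDivisor
import Groth.Agent.L03.SurfExt.Curve
import Groth.Agent.L03.VBPn.Res.Serre
import Groth.Agent.L03.VBPn.Tango.Simple
import Groth.Agent.L03.SurfAdj.DetIso
import Groth.Agent.L22.Adjunction.DetLine
import Groth.Agent.L18.CoprodModules
import Groth.Agent.L03.ShStab.TwistSubbundle
import Groth.Agent.L03.RegularNormal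
import Groth.Agent.S7885

/-!
# The Serre correspondence for local complete intersections of codimension two
-/

set_option autoImplicit false
set_option backward.isDefEq.respectTransparency false
set_option linter.style.haveILetI false
universe u

open CategoryTheory CategoryTheory.Limits AlgebraicGeometry TopologicalSpace Opposite

noncomputable section

namespace Groth.L03.VBPn.Serre

open Groth.L16
open Groth.L16.HomSh (homMod homModF post)
open Groth.L22.ExtSh (E)
open Groth.L22.PDual (pre')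
open Groth.L00.Tensor (tensorMap tensorIso tensorRightF tensorUnitLeft tensorUnitRight)
open Groth.L16.CohLinear (hmap delta exact_hmap_delta)
open Groth.L22.Reg (O' tw' shortExact_tw)

variable {k : Type u} [Field k] {n : ℕ}

/-- The first cohomology of a dual sum of twists. -/
theorem subsingleton_h1_dual (hn : 2 ≤ n) {s : ℕ} (mm : Fin s → ℤ) (g : ℤ)
    (hP : FlatMod.IsFinLocFree (∐ fun j => O' n k (mm j))) :
    Subsingleton (Coh.HH (CohB1.ProjSpace n k) (homMod (∐ fun j => O' n k (mm j)) (O' n k g)) 1) := by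
  let P0 : (CohB1.ProjSpace n k).Modules := ∐ fun j => O' n k (mm j)
  haveI : EnoughInjectives (CohB1.ProjSpace n k).Modules :=
    haveI := Groth.L00.Tensor.grothendieckAbelian_modules (CohB1.ProjSpace n k)
    inferInstance
  haveI : HasExt.{u} (CohB1.ProjSpace n k).Modules := CategoryTheory.hasExt_of_enoughInjectives.{u} _
  haveI := Groth.L00.Tensor.dcoh_hasSheafHom P0
  obtain ⟨e⟩ := Groth.L22.PDual.nonempty_ext_linearEquiv (k := k) P0 hP 1 (O' n k g)
  haveI : Subsingleton (Abelian.Ext P0 (O' n k g) 1) :=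
    Groth.L03.VBPn.ext_sigma_subsingleton (fun j => O' n k (mm j)) _ 1 fun j => Tango.ext_twist n k (mm j) g 0
      (ProjSpace.subsingleton_HH_twist n k _ _ (fun h => by omega) (fun h => by omega))
  exact Groth.L22.Reg.subsingleton_iso ((Groth.L16.HomSh.sheafHomIso P0).app (O' n k g)) 1 e.symm.toEquiv.subsingleton

/-- A cover of a coherent module by twists. -/
theorem exists_cover {F : (CohB1.ProjSpace n k).Modules} (hF : Coh.IsCoh F) :
    ∃ (s : ℕ) (mm : Fin s → ℤ) (π : (∐ fun j => O' n k (mm j)) ⟶ F), Epi π := by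
  obtain ⟨m, hm⟩ := Groth.L22.Reg.exists_regular hF
  obtain ⟨s, mm, π, -, hπ, -⟩ := Res.exists_generators hF (m := m + 1) (by omega)
    (Groth.L22.Reg.Regular.isGloballyGenerated hF hm (by omega))
  exact ⟨s, mm, π, hπ⟩

theorem surjective_h0_of_exact {X : Scheme.{u}} {A B C D : X.Modules} {g : A ⟶ B} {f : B ⟶ C} {b : C ⟶ D}
    (w : g ≫ f = 0) (w' : f ≫ b = 0) [Mono g] (hex : (ShortComplex.mk g f w).Exact)
    (hex' : (ShortComplex.mk f b w').Exact) [Epi b]
    (h1 : Subsingleton (Coh.HH X B 1)) (h2 : Subsingleton (Coh.HH X A 2)) :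
    Function.Surjective (hmap b 0) := by
  haveI : Epi (kernel.lift b f w') := hex'.epi_kernelLift
  let T1 : ShortComplex X.Modules := ShortComplex.mk (kernel.ι b) b (kernel.condition _)
  have hT1 : T1.ShortExact := { exact := ShortComplex.exact_kernel b }
  have w2 : g ≫ kernel.lift b f w' = 0 := by
    rw [← cancel_mono (kernel.ι b), Category.assoc, kernel.lift_ι, w, zero_comp]
  let T2 : ShortComplex X.Modules := ShortComplex.mk g (kernel.lift b f w') w2
  have hT2 : T2.ShortExact :=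
    { exact := by
        refine (ShortComplex.exact_iff_of_epi_of_isIso_of_mono
          (⟨𝟙 _, 𝟙 _, kernel.ι b, by simp [T2], by simp [T2]⟩ : T2 ⟶ ShortComplex.mk g f w)).2 hex
      mono_f := inferInstanceAs (Mono g)
      epi_g := inferInstanceAs (Epi (kernel.lift b f w')) }
  have h3 : Subsingleton (Coh.HH X (kernel b) (0 + 1)) := subsingleton_of_forall_eq 0 fun y => by
    obtain ⟨x, rfl⟩ := (exact_hmap_delta hT2 1 y).1 (@Subsingleton.elim (Coh.HH X T2.X₁ (1 + 1)) h2 _ _)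
    rw [@Subsingleton.elim (Coh.HH X T2.X₂ 1) h1 x 0, map_zero]
  intro y
  exact (exact_hmap_delta hT1 0 y).1 (@Subsingleton.elim (Coh.HH X T1.X₁ (0 + 1)) h3 _ _)

theorem exists_quotient_seq {X Y : Scheme.{u}} (i : Y ⟶ X) [IsClosedImmersion i] :
    ∃ T : ShortComplex X.Modules, T.ShortExact ∧ T.X₁ = ClSub.idealMod i.ker ∧
      T.X₂ = Coh.structureModule X ∧ Nonempty (T.X₃ ≅ Groth.L22.FLI.sO i) := by
  obtain ⟨e⟩ := Groth.L29.ExtDivisor.nonempty_push_iso_quotMod i
  exact ⟨Groth.L29.ExtDivisor.idealSeq X i.ker, Groth.L29.ExtDivisor.shortExact_idealSeq i.ker, rfl, rfl, ⟨e.symm⟩⟩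

theorem isCoh_of_seq {X : Scheme.{u}} [IsLocallyNoetherian X] {S : ShortComplex X.Modules} (hS : S.ShortExact)
    (h2 : Coh.IsCoh S.X₂) (h3 : Coh.IsCoh S.X₃) : Coh.IsCoh S.X₁ :=
  haveI := hS.mono_f
  Groth.L16.CohSupport.isCoh_of_iso (hS.exact.fIsKernel.conePointUniqueUpToIso (limit.isLimit _)).symm
    (Groth.L16.CohKernel.isCoh_kernel_cokernel h2 h3 S.g).1

section

variable {X Y : Scheme.{u}} [IsLocallyNoetherian X] [HasInjectiveResolutions X.Modules] (i : Y ⟶ X)
  [IsClosedImmersion i] (hi : RegImm.IsRegularImmersionOfCodim RegImm.Kind.regular 2 i)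

include hi in
theorem isZero_E_of_iso {Q G : X.Modules} (e : Q ≅ Groth.L22.FLI.sO i) (hG : FlatMod.IsFinLocFree G) (q : ℕ)
    (hq : q < 2) : IsZero (E Q G q) := by
  haveI := Groth.L22.ExtSh.additive_homModF Q
  haveI := Groth.L22.ExtSh.additive_homModF (Groth.L22.FLI.sO i)
  haveI := Groth.L17.Duality.hasSheafHom Q
  haveI := Groth.L17.Duality.hasSheafHom (Groth.L22.FLI.sO i)
  haveI : HasInjectiveResolutions (ModSite.Mod X.sheaf) := ‹HasInjectiveResolutions X.Modules›
  obtain ⟨a⟩ := Groth.L22.ExtSh.nonempty_extSh_iso Q G q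
  obtain ⟨b⟩ := Groth.L22.ExtSh.nonempty_extSh_iso (Groth.L22.FLI.sO i) G q
  exact (Groth.L29.DC.ExtRegImm.isZero_extSh_push i 2 hi G hG (Coh.structureModule Y) q hq).of_iso
    (a.symm ≪≫ (Groth.L10.SiteCoh.rightDerivedCongr (Groth.L17.Duality.homCongr e) q).app G ≪≫ b)

include hi in
/-- The second Ext sheaf is the structure sheaf of the subscheme. -/
theorem nonempty_E_two {Q G : X.Modules} (e : Q ≅ Groth.L22.FLI.sO i) (hG : Coh.IsQCoh G)
    {L : Y.Modules} (hL : ExtPow.IsExtPow 2 (Omega.conormal i) L) (hLi : PicF.IsInvertible L)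
    (ξ : L ≅ (Scheme.Modules.pullback i).obj G) : Nonempty (E Q G 2 ≅ Groth.L22.FLI.sO i) := by
  haveI : Coh.IsQCoh G := hG
  haveI := Groth.L17.Duality.hasSheafHom Q
  haveI := Groth.L17.Duality.hasSheafHom (Groth.L22.FLI.sO i)
  haveI : HasInjectiveResolutions (ModSite.Mod X.sheaf) := ‹HasInjectiveResolutions X.Modules›
  obtain ⟨a⟩ := Groth.L22.ExtSh.nonempty_extSh_iso Q G 2
  obtain ⟨b⟩ := Groth.L22.FLI.nonempty_extSh_iso_homMod (F := G) hi hL
  obtain ⟨c⟩ := Groth.L22.Adjunction.nonempty_homMod_tensor hLi (Coh.structureModule Y)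
  let d : Groth.L22.FLI.tgt i G L ≅ Coh.structureModule Y :=
    (homModF L).mapIso (ξ.symm ≪≫ (tensorUnitRight L).symm) ≪≫ c
  exact ⟨a.symm ≪≫ (Groth.L10.SiteCoh.rightDerivedCongr (Groth.L17.Duality.homCongr e) 2).app G ≪≫ b ≪≫
    (Scheme.Modules.pushforward i).mapIso d⟩

include hi in
/-- The extension, with the global vanishing as hypotheses. -/
theorem exists_bundle {G P₀ : X.Modules} (hG : PicF.IsInvertible G) {L : Y.Modules}
    (hL : ExtPow.IsExtPow 2 (Omega.conormal i) L) (hLi : PicF.IsInvertible L)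
    (ξ : L ≅ (Scheme.Modules.pullback i).obj G)
    (hP : FlatMod.IsFinLocFree P₀) (π : P₀ ⟶ ClSub.idealMod i.ker) [Epi π]
    (h1 : Subsingleton (Coh.HH X (homMod P₀ G) 1)) (h2 : Subsingleton (Coh.HH X G 2)) :
    ∃ S : ShortComplex X.Modules, S.ShortExact ∧ FlatMod.IsFinLocFree S.X₂ ∧
      S.X₁ = G ∧ S.X₃ = ClSub.idealMod i.ker := by
  have hGf := Groth.L20.ResDescent.isFinLocFree_of_isInvertible hG
  have hGc := Groth.L18.Ample.isCoh_of_isInvertible hG
  haveI : IsLocallyNoetherian Y := LocallyOfFiniteType.isLocallyNoetherian i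
  obtain ⟨T, hT, hT1, hT2, ⟨e3⟩⟩ := exists_quotient_seq i
  have hOc : Coh.IsCoh T.X₂ := hT2 ▸ Groth.L16.CohClosedPush.isCoh_structure
  have hOf : FlatMod.IsFinLocFree T.X₂ :=
    hT2 ▸ Groth.L20.ResDescent.isFinLocFree_of_isInvertible (Groth.L18.Ample.isInvertible_structureModule X)
  have hQc : Coh.IsCoh T.X₃ := Groth.L16.CohSupport.isCoh_of_iso e3.symm
    (Groth.L16.CohClosedPush.isCoh_push i Groth.L16.CohClosedPush.isCoh_structure)
  have hJc : Coh.IsCoh T.X₁ := isCoh_of_seq hT hOc hQc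
  have hJc' : Coh.IsCoh (ClSub.idealMod i.ker) := hT1 ▸ hJc
  have z0 := isZero_E_of_iso i hi e3 hGf 0 (by norm_num)
  have z1 := isZero_E_of_iso i hi e3 hGf 1 (by norm_num)
  haveI := isIso_pre hT hJc hOc hQc G z0 z1
  obtain ⟨e2⟩ := nonempty_shift_two hT hJc hOc hQc hOf G
  obtain ⟨e2'⟩ := nonempty_E_two i hi e3 hGc.1 hL hLi ξ
  -- `Hom(J, G) ≅ G`
  obtain ⟨c⟩ := Groth.L22.Adjunction.nonempty_homMod_tensor (Groth.L18.Ample.isInvertible_structureModule X) G
  let eJ : homMod (ClSub.idealMod i.ker) G ≅ G :=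
    eqToIso (by rw [hT1]) ≪≫ (asIso (pre' G T.f)).symm ≪≫
      eqToIso (show homMod T.X₂ G = (homModF (Coh.structureModule X)).obj G by rw [hT2]; rfl) ≪≫
      (homModF (Coh.structureModule X)).mapIso (tensorUnitLeft G).symm ≪≫ c
  -- the presentation
  let S : ShortComplex X.Modules := ShortComplex.mk (kernel.ι π) π (kernel.condition _)
  have hS : S.ShortExact := { exact := ShortComplex.exact_kernel π }
  have hPc := Groth.L16.NegPow.isCoh_of_isFinLocFree hP
  have hK : FlatMod.IsFinLocFree (kernel π) := isFinLocFree_kernel hP hJc' (pd_idealMod i hi) π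
  have hKc := Groth.L16.NegPow.isCoh_of_isFinLocFree hK
  obtain ⟨b, w, hm, hex, hex', hepi⟩ := exists_exact_pre hS hKc hPc hJc' G
  haveI := hm
  haveI : Epi b := hepi (Groth.L22.ExtSh.isZero_E_free hPc hP G 0)
  have hsurj : Function.Surjective (hmap b 0) :=
    surjective_h0_of_exact _ w hex hex' h1 (Groth.L22.Reg.subsingleton_iso eJ.symm 2 h2)
  -- a generating section of the Ext sheaf
  let eA : E T.X₁ G 1 ≅ Groth.L22.FLI.sO i := e2 ≪≫ e2'
  let gen : Coh.structureModule X ⟶ E S.X₃ G 1 :=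
    eqToHom hT2.symm ≫ T.g ≫ e3.hom ≫ eA.inv ≫ eqToHom (by rw [hT1])
  haveI : Epi gen :=
    haveI := hT.epi_g
    inferInstanceAs (Epi (_ ≫ _ ≫ _ ≫ _ ≫ _))
  obtain ⟨s, hs⟩ := Groth.L22.PDual.exists_lift_section b hsurj gen
  obtain ⟨h, hh⟩ := exists_of_section s
  haveI : Epi (idSec G ≫ pre' G h ≫ b) := by
    rw [reassoc_of% hh, hs]
    infer_instance
  haveI := epi_pre_lift h S.f b w hex'
  obtain ⟨q, wq, hq⟩ := shortExact_pushout hS h
  exact ⟨_, hq, isFinLocFree_cokernel_of_epi_pre hK (Groth.L29.LocFree.biprod hGf hP) hG _, rfl, rfl⟩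

end

/-- Pullback to an open subscheme is exact. -/
theorem shortExact_pullback_open {X : Scheme.{u}} (U : X.Opens) {S : ShortComplex X.Modules} (hS : S.ShortExact) :
    (S.map (Scheme.Modules.pullback U.ι)).ShortExact := by
  haveI : PreservesFiniteLimits (Scheme.Modules.restrictFunctor U.ι) :=
    haveI := (Scheme.Modules.restrictAdjunction U.ι).isRightAdjoint
    inferInstance
  haveI : PreservesFiniteLimits (Scheme.Modules.pullback U.ι) :=
    preservesFiniteLimits_of_natIso (Scheme.Modules.restrictFunctorIsoPullback U.ι)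
  haveI : PreservesFiniteColimits (Scheme.Modules.pullback U.ι) :=
    haveI := (Scheme.Modules.pullbackPushforwardAdjunction U.ι).leftAdjoint_preservesColimits
    inferInstance
  exact hS.map_of_exact _

/-- The rank and the determinant of the extension. -/
theorem rank_and_det {X Y : Scheme.{u}} [IsIntegral X] [IsLocallyNoetherian X]
    (hreg : ∀ x : X, IsRegularLocalRing (X.presheaf.stalk x)) (i : Y ⟶ X) [IsClosedImmersion i]
    (hi : RegImm.IsRegularImmersionOfCodim RegImm.Kind.regular 2 i)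
    {M : X.Modules} (hM : PicF.IsInvertible M) {S : ShortComplex X.Modules} (hS : S.ShortExact)
    (hE : FlatMod.IsFinLocFree S.X₂) (e1 : S.X₁ ≅ Coh.structureModule X)
    (e3 : S.X₃ ≅ CohB1.tensorMod (ClSub.idealMod i.ker) M) :
    FlatMod.IsFinLocFreeOfRank 2 S.X₂ ∧ ∃ D : X.Modules, ExtPow.IsExtPow 2 S.X₂ D ∧ Nonempty (D ≅ M) := by
  let U : X.Opens := ⟨(Set.range i)ᶜ, i.isClosedEmbedding.isClosed_range.isOpen_compl⟩
  let F := Scheme.Modules.pullback U.ι
  let Tw := S.map F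
  have hTw : Tw.ShortExact := shortExact_pullback_open U hS
  -- the ideal is trivial on the complement
  obtain ⟨T, hT, hT1, hT2, ⟨eT⟩⟩ := exists_quotient_seq i
  have hz : IsZero (F.obj T.X₃) := by
    refine IsZero.of_iso (Groth.L18.CoprodMod.isZero_pullback_pushforward_of_disjoint U.ι i (fun V => ?_)
      (Coh.structureModule Y)) (F.mapIso eT)
    refine le_bot_iff.1 fun z hz => ?_
    obtain ⟨w, -, hw⟩ := hz
    exact absurd ⟨z, hw.symm⟩ w.2
  have hTU : (T.map F).ShortExact := shortExact_pullback_open U hT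
  haveI : Mono (F.map T.f) := hTU.mono_f
  haveI : Epi (F.map T.f) := hTU.exact.epi_f (hz.eq_of_tgt _ _)
  haveI : IsIso (F.map T.f) := isIso_of_mono_of_epi _
  let eJ : F.obj (ClSub.idealMod i.ker) ≅ Coh.structureModule (U : Scheme.{u}) :=
    F.mapIso (eqToIso hT1.symm) ≪≫ asIso (F.map T.f) ≪≫ F.mapIso (eqToIso hT2) ≪≫
      Groth.L29.LocFree.pullbackUnitIso U.ι
  let eA : Tw.X₁ ≅ Coh.structureModule (U : Scheme.{u}) := F.mapIso e1 ≪≫ Groth.L29.LocFree.pullbackUnitIso U.ι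
  let eB : Tw.X₃ ≅ F.obj M :=
    F.mapIso e3 ≪≫ (Groth.L29.DC.PullTensor.pullTensor U.ι _ M).symm ≪≫ tensorIso eJ (Iso.refl _) ≪≫ tensorUnitLeft _
  have hA : PicF.IsInvertible Tw.X₁ :=
    Groth.L18.Ample.isInvertible_of_iso eA.symm (Groth.L18.Ample.isInvertible_structureModule _)
  have hB : PicF.IsInvertible Tw.X₃ :=
    Groth.L18.Ample.isInvertible_of_iso eB.symm (Groth.L18.Ample.isInvertible_pullback U.ι hM)
  -- the generic point lies off the subscheme
  have hη : genericPoint ↥X ∈ U := fun hmem => by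
    have h2 := two_le_dim i hi hmem
    rw [show ringKrullDim (X.presheaf.stalk (genericPoint ↥X)) = 0 from ringKrullDim_eq_zero_of_isField
      (Field.toIsField X.functionField)] at h2
    exact absurd h2 (by decide)
  -- the rank
  obtain ⟨r, hr⟩ := Groth.L18.KRRAmple.exists_rank hE
  have hr2 : r = 2 := by
    have hFr : FlatMod.IsFinLocFreeOfRank r Tw.X₂ := Groth.L18.MapEpi.isFinLocFreeOfRank_pullback U.ι hr
    have hA1 := Groth.L12.FinCov.isFinLocFreeOfRank_one_of_isInvertible hA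
    have hB1 := Groth.L12.FinCov.isFinLocFreeOfRank_one_of_isInvertible hB
    obtain ⟨V, eV, hzV, -, heV⟩ :=
      Groth.L22.CurveDeg.Det.exists_affine_basis hA1 (⟨genericPoint ↥X, hη⟩ : (U : Scheme.{u})) ⊤ trivial
    have := Groth.L22.Adjunction.rank_add hTw heV hzV hFr hB1
    omega
  subst hr2
  -- the determinant
  obtain ⟨D, hD, hDi⟩ := Groth.L22.Adjunction.exists_isExtPow hr
  obtain ⟨t⟩ := Groth.L03.SurfAdj.nonempty_det_iso U.ι hr hD hA hB Tw.f Tw.g Tw.zero hTw
  let tM : F.obj D ≅ F.obj M := t ≪≫ tensorIso eA eB ≪≫ tensorUnitLeft _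
  obtain ⟨M', hM', ⟨eM⟩⟩ := Groth.L08.Cube.exists_inverse hM
  let tD : (CohB1.tensorMod D M').restrict U.ι ≅ Coh.structureModule (U : Scheme.{u}) :=
    (Scheme.Modules.restrictFunctorIsoPullback U.ι).app _ ≪≫ (Groth.L29.DC.PullTensor.pullTensor U.ι D M').symm ≪≫
      tensorIso tM (Iso.refl _) ≪≫ Groth.L29.DC.PullTensor.pullTensor U.ι M M' ≪≫ F.mapIso eM ≪≫
      Groth.L29.LocFree.pullbackUnitIso U.ι
  obtain ⟨e⟩ := (Groth.Agent.S7885.result X
    (fun x => by
      haveI := hreg x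
      exact ⟨Groth.L01.isDomain_of_regular _, Groth.L03.RegularNormal.isIntegrallyClosed _⟩) U
    (fun x hx => two_le_dim i hi (not_not.1 hx)) _ (Groth.L18.GenLoc.isInvertible_tensor hDi hM')).2 ⟨tD⟩
  exact ⟨hr, D, hD, ⟨(tensorUnitRight D).symm ≪≫ tensorIso (Iso.refl _) (eM.symm ≪≫ Groth.L00.Tensor.tensorComm M M') ≪≫
    (Groth.L00.Tensor.tensorAssoc D M' M).symm ≪≫ tensorIso e (Iso.refl _) ≪≫ tensorUnitLeft M⟩⟩

/-- The Serre correspondence. -/
theorem serre_correspondence (hn : 3 ≤ n) {Y : Scheme.{u}} (i : Y ⟶ CohB1.ProjSpace n k) [IsClosedImmersion i]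
    (hi : RegImm.IsRegularImmersionOfCodim RegImm.Kind.regular 2 i) (c : ℤ)
    (hdet : ∃ L : Y.Modules, ExtPow.IsExtPow 2 (Omega.conormal i) L ∧
      Nonempty (L ≅ (Scheme.Modules.pullback i).obj (Twist.twistProjSpace n k (-c)))) :
    ∃ S : ShortComplex (CohB1.ProjSpace n k).Modules, S.ShortExact ∧ FlatMod.IsFinLocFreeOfRank 2 S.X₂ ∧
      Nonempty (S.X₁ ≅ Coh.structureModule (CohB1.ProjSpace n k)) ∧
      Nonempty (S.X₃ ≅ CohB1.tensorMod (ClSub.idealMod i.ker) (Twist.twistProjSpace n k c)) ∧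
      ∃ D : (CohB1.ProjSpace n k).Modules, ExtPow.IsExtPow 2 S.X₂ D ∧
        Nonempty (D ≅ Twist.twistProjSpace n k c) := by
  haveI := Groth.L22.PDual.proper n k
  haveI := Groth.L21.RR.isNoetherian_of_proper (X := CohB1.ProjSpace n k) k
  haveI := Groth.L17.PushQCoh.hasInjectiveResolutions (CohB1.ProjSpace n k)
  obtain ⟨L, hL, ⟨ξ⟩⟩ := hdet
  have hG : ∀ d : ℤ, PicF.IsInvertible (O' n k d) := fun d => ProjTwist.isInvertible_twistProjSpace n k d
  have hLi : PicF.IsInvertible L :=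
    Groth.L18.Ample.isInvertible_of_iso ξ.symm (Groth.L18.Ample.isInvertible_pullback i (hG (-c)))
  obtain ⟨T, hT, hT1, hT2, ⟨e3⟩⟩ := exists_quotient_seq i
  haveI : IsLocallyNoetherian Y := LocallyOfFiniteType.isLocallyNoetherian i
  have hJ : Coh.IsCoh (ClSub.idealMod i.ker) := hT1 ▸ isCoh_of_seq hT
    (hT2 ▸ Groth.L16.CohClosedPush.isCoh_structure)
    (Groth.L16.CohSupport.isCoh_of_iso e3.symm
      (Groth.L16.CohClosedPush.isCoh_push i Groth.L16.CohClosedPush.isCoh_structure))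
  obtain ⟨s, mm, π, hπ⟩ := exists_cover hJ
  have hP : FlatMod.IsFinLocFree (∐ fun j => O' n k (mm j)) :=
    Groth.L29.DC.isFinLocFree_coprod_fin s _ fun j => Groth.L20.ResDescent.isFinLocFree_of_isInvertible (hG _)
  obtain ⟨S, hS, hE, h1, h3⟩ := exists_bundle i hi (hG (-c)) hL hLi ξ hP π
    (subsingleton_h1_dual (by omega) mm (-c) hP)
    (ProjSpace.subsingleton_HH_twist n k _ _ (fun h => by omega) (fun h => by omega))
  let S' := S.map (tensorRightF (O' n k c))
  have hS' : S'.ShortExact := shortExact_tw hS c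
  obtain ⟨ea⟩ := Groth.L22.Reg.nonempty_O_add (n := n) (R := k) (show -c + c = 0 by omega)
  obtain ⟨e0⟩ := Groth.L22.Reg.nonempty_O_zero n k
  let e1' : S'.X₁ ≅ Coh.structureModule (CohB1.ProjSpace n k) :=
    tensorIso (eqToIso h1) (Iso.refl _) ≪≫ ea ≪≫ e0
  let e3' : S'.X₃ ≅ CohB1.tensorMod (ClSub.idealMod i.ker) (O' n k c) := tensorIso (eqToIso h3) (Iso.refl _)
  have hE' : FlatMod.IsFinLocFree S'.X₂ :=
    Groth.L29.DC.isFinLocFree_tensor hE (Groth.L20.ResDescent.isFinLocFree_of_isInvertible (hG c))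
  obtain ⟨hr, hD⟩ := rank_and_det Groth.L22.PDual.regular_stalk i hi (hG c) hS' hE' e1' e3'
  exact ⟨S', hS', hr, ⟨e1'⟩, ⟨e3'⟩, hD⟩

end Groth.L03.VBPn.Serre
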